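import Groth.Agent.QCoh.RpushModel
import Groth.Agent.QCoh.RpushGod
import Groth.Agent.KFlatLib.Scheme.AffineConservative
import Groth.Agent.KFlatLib.Scheme.RpushQCoh
import Groth.Agent.S0012
import Groth.Agent.S11319
import Groth.Agent.QCoh.OpenSub

/-!
# Vanishing of higher direct images is stable under base change
-/

set_option linter.style.haveILetI false
set_option backward.isDefEq.respectTransparency false
set_option backward.isDefEq.respectTransparency.types false

universe u

open CategoryTheory CategoryTheory.Limits AlgebraicGeometry TopologicalSpace Opposite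

namespace Groth.Agent.FibVanNN

open Groth.Agent Groth.Agent.QCoh

theorem rpush_vanishing_baseChange {X Y X' Y' : Scheme.{u}} (f : X ⟶ Y) [CompactSpace X]
    [QuasiSeparatedSpace X] [CompactSpace Y] [QuasiSeparatedSpace Y] (d : ℕ)
    (hvan : ∀ (M : X.Modules) (i : ℕ), Coh.IsQCoh M → d < i → IsZero ((Coh.RpushAb f i).obj (Coh.toAb M)))
    (g : Y' ⟶ Y) (f' : X' ⟶ Y') (g' : X' ⟶ X) (sq : IsPullback g' f' f g) (M' : X'.Modules)
    (hM' : Coh.IsQCoh M') (i : ℕ) (hi : d < i) : IsZero ((Coh.RpushAb f' i).obj (Coh.toAb M')) := by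
  haveI : QuasiCompact f := QuasiCompact.of_comp f (terminal.from Y)
  haveI : QuasiSeparated f := QuasiSeparated.of_comp f (terminal.from Y)
  haveI : QuasiCompact f' := MorphismProperty.of_isPullback sq ‹QuasiCompact f›
  haveI : QuasiSeparated f' := MorphismProperty.of_isPullback sq ‹QuasiSeparated f›
  haveI : HasInjectiveResolutions X.Modules := KFlatLib.hasInjectiveResolutions_modules
  haveI : HasInjectiveResolutions X'.Modules := KFlatLib.hasInjectiveResolutions_modules
  obtain ⟨e⟩ := S11319.result f' M' i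
  refine IsZero.of_iso ((SheafOfModules.toSheaf _).map_isZero ?_) e.symm
  refine KFlatLib.isZero_of_sections (QCoh.isQCoh_Rpush f' hM' i) fun y => ?_
  obtain ⟨V, hV, hyV, -⟩ := exists_isAffineOpen_mem_and_subset (x := g y) (U := (⊤ : Y.Opens)) trivial
  obtain ⟨V', hV', hyV', hV'V⟩ := exists_isAffineOpen_mem_and_subset (x := y) (U := g ⁻¹ᵁ V) hyV
  refine ⟨V', hyV', hV', ?_⟩
  obtain ⟨e'⟩ := QCoh.nonempty_sections_HH (f := f') hM' hV' i
  suffices hW : Subsingleton (Coh.HH _ (M'.restrict (f' ⁻¹ᵁ V').ι) i) from e'.toEquiv.subsingleton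
  let U : X.Opens := f ⁻¹ᵁ V
  let W : X'.Opens := f' ⁻¹ᵁ V'
  have hle : W ≤ g' ⁻¹ᵁ U := fun w hw => by
    show f (g' w) ∈ V
    rw [← Scheme.Hom.comp_apply, sq.w, Scheme.Hom.comp_apply]
    exact hV'V hw
  let h := g'.resLE U W hle
  let gV := g.resLE V V' hV'V
  have hw : W.ι ≫ g' = h ≫ U.ι := (Scheme.Hom.resLE_comp_ι g' hle).symm
  have hb : IsPullback (W.ι ≫ g') (f' ∣_ V') f (gV ≫ V.ι) := by
    rw [Scheme.Hom.resLE_comp_ι]
    exact ((isPullback_morphismRestrict f' V').flip).paste_horiz sq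
  have hh : IsPullback h (f' ∣_ V') (f ∣_ V) gV := by
    refine IsPullback.of_right (h₁₂ := U.ι) (by rw [← hw]; exact hb) ?_ (isPullback_morphismRestrict f V).flip
    rw [← cancel_mono V.ι, Category.assoc, Category.assoc, morphismRestrict_ι, ← Category.assoc, ← hw,
      Category.assoc, sq.w, Scheme.Hom.resLE_comp_ι, ← Category.assoc, ← morphismRestrict_ι, Category.assoc]
  haveI : IsAffine (V : Scheme.{u}) := hV
  haveI : IsAffine (V' : Scheme.{u}) := hV'
  haveI : IsAffineHom gV := inferInstance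
  haveI : IsAffineHom h := MorphismProperty.of_isPullback hh.flip ‹IsAffineHom gV›
  haveI : CompactSpace (W : Scheme.{u}) := isCompact_iff_compactSpace.1 (f'.isCompact_preimage hV'.isCompact)
  haveI : QuasiSeparatedSpace (W : Scheme.{u}) :=
    (isQuasiSeparated_iff_quasiSeparatedSpace (W : Set X') W.2).1 (f'.isQuasiSeparated_preimage hV'.isQuasiSeparated)
  haveI : QuasiCompact (W.ι ≫ g') := QuasiCompact.of_comp (W.ι ≫ g') (terminal.from X)
  haveI : QuasiSeparated (W.ι ≫ g') := QuasiSeparated.of_comp (W.ι ≫ g') (terminal.from X)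
  let G := M'.restrict W.ι
  haveI hG : Coh.IsQCoh G := QCoh.isQCoh_restrict W.ι hM'
  let N := (Scheme.Modules.pushforward (W.ι ≫ g')).obj G
  have hN : Coh.IsQCoh N := QCoh.isQCoh_pushforward _ hG
  obtain ⟨eN⟩ := S11319.result f N i
  have hz : IsZero ((Coh.Rpush f i).obj N) := by
    have h0 := (hvan N i hN hi).of_iso eN
    rw [IsZero.iff_id_eq_zero] at h0 ⊢
    refine (SheafOfModules.toSheaf Y.ringCatSheaf).map_injective ?_
    exact ((SheafOfModules.toSheaf Y.ringCatSheaf).map_id _).trans (h0.trans (Functor.map_zero _ _ _).symm)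
  haveI : Subsingleton Γ((Coh.Rpush f i).obj N, V) :=
    subsingleton_of_forall_eq 0 fun x => congr(($((IsZero.iff_id_eq_zero _).1 hz)).app V x)
  obtain ⟨e₀⟩ := QCoh.nonempty_sections_HH (f := f) hN hV i
  haveI : Subsingleton (Coh.HH _ (N.restrict U.ι) i) := e₀.symm.toEquiv.subsingleton
  haveI : IsIso ((Scheme.Modules.restrictAdjunction U.ι).counit.app ((Scheme.Modules.pushforward h).obj G)) :=
    inferInstance
  let eR : N.restrict U.ι ≅ (Scheme.Modules.pushforward h).obj G :=
    (Scheme.Modules.restrictFunctor U.ι).mapIso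
        (((Scheme.Modules.pushforwardCongr hw).app G) ≪≫ ((Scheme.Modules.pushforwardComp h U.ι).app G).symm) ≪≫
      asIso ((Scheme.Modules.restrictAdjunction U.ι).counit.app ((Scheme.Modules.pushforward h).obj G))
  haveI : Subsingleton (Coh.HH _ ((Coh.push h).obj G) i) :=
    QCoh.subsingleton_HH_of_iso eR i ‹Subsingleton (Coh.HH _ (N.restrict U.ι) i)›
  obtain ⟨e₁⟩ := S0012.result h G i
  exact e₁.toEquiv.subsingleton

end Groth.Agent.FibVanNN
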