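import Groth.Agent.FibVanish.QCoh
import Groth.Agent.LimSm.Model
import Groth.Agent.CohPullLib.FlatStage
import Groth.Agent.FibDim.Comp
import Groth.Agent.FibDim.BaseChange
import Groth.Agent.S0403
import Groth.Agent.S2079
import Groth.Agent.S9216
import Groth.Agent.S0012
import Groth.Agent.QCoh.RpushStalk
import Groth.Agent.S11319
import Groth.Agent.NormX.StalkFibre
import Groth.Agent.KFlatLib.Scheme.RpushQCoh

/-!
# Vanishing above the fibre dimension over an arbitrary base
-/

set_option linter.style.haveILetI false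
set_option backward.isDefEq.respectTransparency false
set_option backward.isDefEq.respectTransparency.types false

universe u

open CategoryTheory CategoryTheory.Limits AlgebraicGeometry TopologicalSpace Opposite

namespace Groth.Agent.FibVanNN

open Groth.Agent

/-- All the fibres of a proper scheme over a local ring are bounded by the closed fibre. -/
lemma fibre_dim_le_of_local (A : Type u) [CommRing A] [IsLocalRing A] {X : Scheme.{u}}
    (f : X ⟶ Spec (CommRingCat.of A)) [IsProper f] (d : ℕ)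
    (hd : topologicalKrullDim ↥(f.fiber (IsLocalRing.closedPoint A)) ≤ d) (s : Spec (CommRingCat.of A)) :
    topologicalKrullDim ↥(f.fiber s) ≤ d :=
  (IsLocalRing.specializes_closedPoint (R := A) s).mem_open (S0403.result f (d : WithBot ℕ∞)) hd

/-- A proper scheme over a local ring embeds affinely into a proper scheme over a noetherian local ring
with small closed fibre. -/
lemma exists_model (A : Type u) [CommRing A] [IsLocalRing A] {X : Scheme.{u}}
    (f : X ⟶ Spec (CommRingCat.of A)) [IsProper f] (d : ℕ)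
    (hd : topologicalKrullDim ↥(f.fiber (IsLocalRing.closedPoint A)) ≤ d) :
    ∃ (A₁ : Type u) (_ : CommRing A₁) (_ : IsNoetherianRing A₁) (X₁ : Scheme.{u})
      (f₁ : X₁ ⟶ Spec (CommRingCat.of A₁)) (h : X ⟶ X₁), IsProper f₁ ∧ IsAffineHom h ∧
        ∀ y : ↥(Spec (CommRingCat.of A₁)), IsClosed ({y} : Set ↥(Spec (CommRingCat.of A₁))) →
          topologicalKrullDim ↥(f₁.fiber y) ≤ d := by
  obtain ⟨I, _, _, D, c, hc, e, hmap, hπ⟩ := S2079.result f
  obtain ⟨i⟩ := IsCofiltered.nonempty (C := I)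
  obtain ⟨hcl, hpr, hfp⟩ := hπ i
  haveI := hcl
  haveI : IsProper (D.obj i).hom := hpr
  haveI : LocallyOfFinitePresentation (D.obj i).hom := hfp
  let ι : X ⟶ (D.obj i).left := e.inv.left ≫ (c.π.app i).left
  haveI : IsIso e.inv.left := inferInstanceAs (IsIso ((Over.forget _).map e.inv))
  haveI : IsClosedImmersion ι := inferInstance
  have hι : ι ≫ (D.obj i).hom = f := by
    rw [Category.assoc, Over.w]
    exact Over.w e.inv
  obtain ⟨Z, ι', k, hι', hlfp', hk, hZd⟩ := S9216.result (D.obj i).hom d ι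
    (fun s => by rw [hι]; exact fibre_dim_le_of_local A f d hd s)
  haveI := hι'
  haveI := hlfp'
  haveI : IsClosedImmersion k :=
    haveI : IsClosedImmersion (k ≫ ι') := hk.symm ▸ ‹IsClosedImmersion ι›
    IsClosedImmersion.of_comp k ι'
  let fZ : Z ⟶ Spec (CommRingCat.of A) := ι' ≫ (D.obj i).hom
  haveI : IsProper fZ := inferInstance
  haveI : LocallyOfFinitePresentation fZ := inferInstance
  obtain ⟨A₀, hA₀, X₀, f₀, g, hf₀, -, hlfp₀, -, -, hg⟩ :=
    LimSm.exists_model_over_fg (P := @IsProper) (P' := @IsProper) (Q := @LocallyOfFiniteType)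
      (Q' := @LocallyOfFiniteType) MorLib.Ultra.core_isProper MorLib.Ultra.core_isProper
      (fun f _ => inferInstance) (fun f _ => inferInstance) A fZ ‹_› ‹_›
  haveI : IsProper f₀ := hf₀
  haveI := hlfp₀
  haveI := CohPullLib.isNoetherianRing_of_fg hA₀
  let q : Ideal A₀ := (IsLocalRing.maximalIdeal A).comap (algebraMap A₀ A)
  let A₁ := Localization.AtPrime q
  let φ : A₁ →+* A := IsLocalization.lift (M := q.primeCompl) (S := A₁) (g := algebraMap A₀ A)
    fun y => by
      by_contra hy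
      exact y.2 ((IsLocalRing.mem_maximalIdeal _).2 hy)
  have hφ : φ.comp (algebraMap A₀ A₁) = algebraMap A₀ A :=
    RingHom.ext fun a => IsLocalization.lift_eq _ a
  let ψ₀ := Spec.map (CommRingCat.ofHom (algebraMap A₀ A₁))
  let ψ := Spec.map (CommRingCat.ofHom φ)
  have hψ : ψ ≫ ψ₀ = Spec.map (CommRingCat.ofHom (algebraMap A₀ A)) := by
    rw [← Spec.map_comp, ← CommRingCat.ofHom_comp, hφ]
  let X₁ := pullback f₀ ψ₀
  let f₁ : X₁ ⟶ Spec (CommRingCat.of A₁) := pullback.snd f₀ ψ₀
  have hw : g ≫ f₀ = (fZ ≫ ψ) ≫ ψ₀ := by rw [Category.assoc, hψ]; exact hg.w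
  let u : Z ⟶ X₁ := pullback.lift g (fZ ≫ ψ) hw
  have hu : IsPullback u fZ f₁ ψ := by
    refine IsPullback.of_right (h₁₂ := pullback.fst f₀ ψ₀) ?_ (pullback.lift_snd _ _ _)
      (IsPullback.of_hasPullback f₀ ψ₀)
    rw [pullback.lift_fst, hψ]
    exact hg
  haveI : IsAffineHom ψ := inferInstance
  haveI : IsAffineHom u := MorphismProperty.of_isPullback hu.flip ‹IsAffineHom ψ›
  refine ⟨A₁, inferInstance, inferInstance, X₁, f₁, k ≫ u, inferInstance, inferInstance, fun y hy => ?_⟩
  have hy' : y = IsLocalRing.closedPoint A₁ :=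
    PrimeSpectrum.ext (IsLocalRing.eq_maximalIdeal ((PrimeSpectrum.isClosed_singleton_iff_isMaximal y).1 hy))
  subst hy'
  refine (FibDim.topologicalKrullDim_fiber_le_iff f₁ _ d).2 fun z hz => ?_
  have hψc : ψ (IsLocalRing.closedPoint A) = IsLocalRing.closedPoint A₁ := by
    refine PrimeSpectrum.localization_comap_injective (S := A₁) q.primeCompl (PrimeSpectrum.ext ?_)
    show Ideal.comap (algebraMap A₀ A₁) (Ideal.comap φ (IsLocalRing.maximalIdeal A)) =
      Ideal.comap (algebraMap A₀ A₁) (IsLocalRing.maximalIdeal A₁)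
    rw [Ideal.comap_comap, hφ]
    exact (IsLocalization.AtPrime.under_maximalIdeal A₁ q).symm
  obtain ⟨x, -, hx, hrd⟩ := FibDim.exists_rd_baseChange_eq hu z (IsLocalRing.closedPoint A) (hz.trans hψc.symm)
  rw [← hrd]
  exact (FibDim.topologicalKrullDim_fiber_le_iff fZ _ d).1 (hZd _) x hx

/-- Vanishing above the closed fibre dimension over a local ring. -/
theorem subsingleton_HH_of_local (A : Type u) [CommRing A] [IsLocalRing A] {X : Scheme.{u}}
    (f : X ⟶ Spec (CommRingCat.of A)) [IsProper f] {d : ℕ}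
    (hd : topologicalKrullDim ↥(f.fiber (IsLocalRing.closedPoint A)) ≤ d) {N : X.Modules} (hN : Coh.IsQCoh N)
    {p : ℕ} (hp : d < p) : Subsingleton (Coh.HH X N p) := by
  obtain ⟨A₁, _, _, X₁, f₁, h, hf₁, hh, hfib⟩ := exists_model A f d hd
  haveI := hf₁
  haveI := hh
  letI : X₁.Over (Spec (CommRingCat.of A₁)) := ⟨f₁⟩
  haveI : IsProper (X₁ ↘ Spec (CommRingCat.of A₁)) := hf₁
  haveI := hN
  obtain ⟨e⟩ := S0012.result h N p
  haveI : Subsingleton (Coh.HH X₁ ((Coh.push h).obj N) p) := by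
    refine FibVanish.subsingleton_HH_qcoh (A := A₁) (fun y hy => ?_) (QCoh.isQCoh_pushforward h hN) hp
    exact ((f₁.fiberHomeo y).symm.isInducing.topologicalKrullDim_le).trans (hfib y hy)
  exact e.toEquiv.subsingleton

/-- The stalks of higher direct images vanish above the fibre dimension. -/
theorem subsingleton_stalk_Rpush {X Y : Scheme.{u}} (f : X ⟶ Y) [IsProper f] (y : Y) (d : ℕ)
    (hd : topologicalKrullDim ↥(f.fiber y) ≤ d) [HasInjectiveResolutions X.Modules] {M : X.Modules}
    (hM : Coh.IsQCoh M) (p : ℕ) (hp : d < p) : Subsingleton (((Coh.Rpush f p).obj M).presheaf.stalk y) := by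
  let X₁ := NormX.locX f y
  let g := NormX.locι f y
  have hsq : IsPullback g (X₁ ↘ Spec (CommRingCat.of (Y.presheaf.stalk y))) f (Y.fromSpecStalk y) :=
    IsPullback.of_hasPullback f (Y.fromSpecStalk y)
  obtain ⟨e₁⟩ := QCoh.nonempty_stalk_HH f hM y p X₁ g hsq
  haveI : IsProper (X₁ ↘ Spec (CommRingCat.of (Y.presheaf.stalk y))) :=
    MorphismProperty.of_isPullback hsq ‹IsProper f›
  have hd' : topologicalKrullDim
      ↥((X₁ ↘ Spec (CommRingCat.of (Y.presheaf.stalk y))).fiber (IsLocalRing.closedPoint _)) ≤ d := by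
    refine (FibDim.topologicalKrullDim_fiber_le_iff _ _ d).2 fun z hz => ?_
    refine (FibDim.rd_baseChange_le hsq z).trans ((FibDim.topologicalKrullDim_fiber_le_iff f y d).1 hd _ ?_)
    rw [← Scheme.Hom.comp_apply, hsq.w, Scheme.Hom.comp_apply, hz]
    exact Scheme.fromSpecStalk_closedPoint
  haveI : Subsingleton (Coh.HH X₁ ((Scheme.Modules.pullback g).obj M) p) :=
    subsingleton_HH_of_local _ _ hd' (QCoh.isQCoh_pullback g hM) hp
  exact e₁.toEquiv.subsingleton

/-- The stalks of higher direct images of sheaves of groups vanish above the fibre dimension. -/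
theorem isZero_stalk_RpushAb {X Y : Scheme.{u}} (f : X ⟶ Y) [IsProper f] (y : Y) (d : ℕ)
    (hd : topologicalKrullDim ↥(f.fiber y) ≤ d) {M : X.Modules} (hM : Coh.IsQCoh M) (p : ℕ) (hp : d < p) :
    IsZero (TopCat.Presheaf.stalk ((Coh.RpushAb f p).obj (Coh.toAb M)).obj y) := by
  haveI : HasInjectiveResolutions X.Modules := KFlatLib.hasInjectiveResolutions_modules
  obtain ⟨e⟩ := S11319.result f M p
  haveI := subsingleton_stalk_Rpush f y d hd hM p hp
  have hz : IsZero ((TopCat.Presheaf.stalkFunctor AddCommGrpCat y).obj (Coh.toAb ((Coh.Rpush f p).obj M)).obj) :=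
    @AddCommGrpCat.isZero_of_subsingleton _ this
  let F : Sheaf (Opens.grothendieckTopology Y) AddCommGrpCat.{u} ⥤ AddCommGrpCat.{u} :=
    sheafToPresheaf (Opens.grothendieckTopology Y) AddCommGrpCat.{u} ⋙
      TopCat.Presheaf.stalkFunctor AddCommGrpCat.{u} y
  exact hz.of_iso (F.mapIso e).symm

/-- Higher direct images vanish near a point above the fibre dimension. -/
theorem exists_affine_nhd_vanishing {X Y : Scheme.{u}} (f : X ⟶ Y) [IsProper f] (y : Y) (d : ℕ)
    (hd : topologicalKrullDim ↥(f.fiber y) ≤ d) :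
    ∃ V : Y.Opens, y ∈ V ∧ IsAffineOpen V ∧
      ∀ (M : (↑(f ⁻¹ᵁ V) : Scheme.{u}).Modules) (i : ℕ), Coh.IsQCoh M → d < i →
        IsZero ((Coh.RpushAb (f ∣_ V) i).obj (Coh.toAb M)) := by
  obtain ⟨V, hV, hyV, hle⟩ := exists_isAffineOpen_mem_and_subset (x := y)
    (U := (⟨_, S0403.result f (d : WithBot ℕ∞)⟩ : Y.Opens)) hd
  refine ⟨V, hyV, hV, fun M i hM hi => ?_⟩
  haveI : HasInjectiveResolutions (↑(f ⁻¹ᵁ V) : Scheme.{u}).Modules := KFlatLib.hasInjectiveResolutions_modules
  obtain ⟨e⟩ := S11319.result (f ∣_ V) M i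
  refine ((SheafOfModules.toSheaf _).map_isZero ?_).of_iso e.symm
  refine KFlatLib.isZero_of_stalk _ fun v => ?_
  have hdv : topologicalKrullDim ↥((f ∣_ V).fiber v) ≤ d := by
    refine (FibDim.topologicalKrullDim_fiber_le_iff _ _ d).2 fun z hz => ?_
    refine (FibDim.rd_baseChange_le (isPullback_morphismRestrict f V).flip z).trans
      ((FibDim.topologicalKrullDim_fiber_le_iff f v.1 d).1 (hle v.2) _ ?_)
    rw [← hz]
    exact (Scheme.Hom.comp_apply _ _ _).symm.trans
      ((congrArg (fun φ => φ z) (morphismRestrict_ι f V).symm).trans (Scheme.Hom.comp_apply _ _ _))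
  haveI := subsingleton_stalk_Rpush (f ∣_ V) v d hdv hM i hi
  exact @ModuleCat.isZero_of_subsingleton _ _ _ this

end Groth.Agent.FibVanNN
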