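import Groth.Agent.FibVanNN.Basic
import Groth.Agent.CohPullLib.ModDescend
import Groth.Agent.CohPullLib.Edge
import Groth.Agent.FibVanish.QCoh
import Groth.Agent.FFun.Basic
import Groth.Agent.QCoh.RpushCoh

/-!
# Finiteness of top degree cohomology over an arbitrary affine base
-/

set_option linter.style.haveILetI false
set_option backward.isDefEq.respectTransparency false
set_option backward.isDefEq.respectTransparency.types false

universe u

open CategoryTheory CategoryTheory.Limits AlgebraicGeometry TopologicalSpace Opposite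
open Groth.Agent.PnCoh.Finite (mapLin)

attribute [local instance] Groth.Agent.QCoh.hasFiniteBiproducts

namespace Groth.Agent.FibVanNN

open Groth.Agent Groth.Agent.QCoh Groth.Agent.ExistEasy

variable {A : Type u} [CommRing A] {X : Scheme.{u}}

/-- The edge map is natural. -/
theorem pushEdge_natural {Y : Scheme.{u}} (h : X ⟶ Y) {F F' : X.Modules} (ψ : F ⟶ F') (p : ℕ)
    (z : Coh.HH Y ((Scheme.Modules.pushforward h).obj F) p) :
    CohPull.pushEdge h F' p (CohPull.mapH ((Scheme.Modules.pushforward h).map ψ) p z) =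
      CohPull.mapH ψ p (CohPull.pushEdge h F p z) := by
  rw [CohPullLib.pushEdge_apply, CohPullLib.pushEdge_apply]
  exact BigSiteLib.HofBij.hof_natural (CohPull.invPushAdj h.base) (CohPull.oneTo h.base)
    ((SheafOfModules.toSheaf X.ringCatSheaf).map ψ) p z

/-- A proper scheme with small fibres lives over a noetherian model with small fibres. -/
theorem exists_model_finite (f : X ⟶ Spec (CommRingCat.of A)) [IsProper f] (d : ℕ)
    (hd : ∀ s, topologicalKrullDim ↥(f.fiber s) ≤ d) :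
    ∃ (A₁ : Type u) (_ : CommRing A₁) (_ : IsNoetherianRing A₁) (_ : Algebra A₁ A) (X₁ : Scheme.{u})
      (f₁ : X₁ ⟶ Spec (CommRingCat.of A₁)) (Z : Scheme.{u}) (fZ : Z ⟶ Spec (CommRingCat.of A)) (k : X ⟶ Z)
      (u : Z ⟶ X₁), IsProper f₁ ∧ IsClosedImmersion k ∧ k ≫ fZ = f ∧
        IsPullback u fZ f₁ (Spec.map (CommRingCat.ofHom (algebraMap A₁ A))) ∧
        ∀ y, topologicalKrullDim ↥(f₁.fiber y) ≤ d := by
  obtain ⟨I, _, _, D, c, hc, e, hmap, hπ⟩ := S2079.result f
  obtain ⟨i⟩ := IsCofiltered.nonempty (C := I)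
  obtain ⟨hcl, hpr, hfp⟩ := hπ i
  haveI := hcl
  haveI : IsProper (D.obj i).hom := hpr
  haveI : LocallyOfFinitePresentation (D.obj i).hom := hfp
  let ι : X ⟶ (D.obj i).left := e.inv.left ≫ (c.π.app i).left
  haveI : IsIso e.inv.left := inferInstanceAs (IsIso ((Over.forget _).map e.inv))
  haveI : IsClosedImmersion ι := inferInstance
  have hι : ι ≫ (D.obj i).hom = f := by
    rw [Category.assoc, Over.w]
    exact Over.w e.inv
  obtain ⟨Z, ι', k, hι', hlfp', hk, hZd⟩ := S9216.result (D.obj i).hom d ι (fun s => by rw [hι]; exact hd s)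
  haveI := hι'
  haveI := hlfp'
  haveI : IsClosedImmersion k :=
    haveI : IsClosedImmersion (k ≫ ι') := hk.symm ▸ ‹IsClosedImmersion ι›
    IsClosedImmersion.of_comp k ι'
  let fZ : Z ⟶ Spec (CommRingCat.of A) := ι' ≫ (D.obj i).hom
  haveI : IsProper fZ := inferInstance
  haveI : LocallyOfFinitePresentation fZ := inferInstance
  obtain ⟨A₀, hA₀, X₀, f₀, g, hf₀, -, hlfp₀, -, -, hg⟩ :=
    LimSm.exists_model_over_fg (P := @IsProper) (P' := @IsProper) (Q := @LocallyOfFiniteType)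
      (Q' := @LocallyOfFiniteType) MorLib.Ultra.core_isProper MorLib.Ultra.core_isProper
      (fun f _ => inferInstance) (fun f _ => inferInstance) A fZ ‹_› ‹_›
  haveI : IsProper f₀ := hf₀
  haveI := hlfp₀
  obtain ⟨s, hs⟩ := (PrimeSpectrum.isOpen_iff _).1 (S0403.result f₀ (d : WithBot ℕ∞))
  have hE : ∀ p : Spec (CommRingCat.of A), ¬ s ⊆ ((p.asIdeal.comap (algebraMap A₀ A) : Ideal A₀) : Set A₀) := by
    intro p hp
    let q : Spec (CommRingCat.of ↥A₀) := Spec.map (CommRingCat.ofHom (algebraMap (↥A₀) A)) p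
    have hq : q ∈ PrimeSpectrum.zeroLocus s := hp
    rw [← hs] at hq
    refine hq ((FibDim.topologicalKrullDim_fiber_le_iff f₀ q d).2 fun z hz => ?_)
    obtain ⟨x, -, hx, hrd⟩ := FibDim.exists_rd_baseChange_eq hg z p hz
    rw [← hrd]
    exact (FibDim.topologicalKrullDim_fiber_le_iff fZ p d).1 (hZd p) x hx
  have hone : (1 : A) ∈ Submodule.span A (algebraMap A₀ A '' s) := by
    by_contra h1
    obtain ⟨m, hm, hle⟩ := Ideal.exists_le_maximal (Ideal.span (algebraMap A₀ A '' s))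
      fun ht => h1 ((Ideal.eq_top_iff_one _).1 ht)
    exact hE ⟨m, hm.isPrime⟩ fun a ha => hle (Ideal.subset_span ⟨a, ha, rfl⟩)
  obtain ⟨n, cf, gs, hsum⟩ := Submodule.mem_span_set'.1 hone
  let A₁ : Subalgebra ℤ A := A₀ ⊔ Algebra.adjoin ℤ (Set.range cf)
  have hA₁ : A₁.FG := hA₀.sup ((Subalgebra.fg_def).2 ⟨_, Set.finite_range cf, rfl⟩)
  haveI := CohPullLib.isNoetherianRing_of_fg hA₁
  let incl : ↥A₀ →+* ↥A₁ := (Subalgebra.inclusion (show A₀ ≤ A₁ from le_sup_left)).toRingHom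
  let ψ₀ := Spec.map (CommRingCat.ofHom incl)
  let ψ := Spec.map (CommRingCat.ofHom (algebraMap (↥A₁) A))
  have hψ : ψ ≫ ψ₀ = Spec.map (CommRingCat.ofHom (algebraMap (↥A₀) A)) := by
    rw [← Spec.map_comp, ← CommRingCat.ofHom_comp]
    rfl
  let X₁ := pullback f₀ ψ₀
  let f₁ : X₁ ⟶ Spec (CommRingCat.of ↥A₁) := pullback.snd f₀ ψ₀
  have hw : g ≫ f₀ = (fZ ≫ ψ) ≫ ψ₀ := by rw [Category.assoc, hψ]; exact hg.w
  let u : Z ⟶ X₁ := pullback.lift g (fZ ≫ ψ) hw
  have hu : IsPullback u fZ f₁ ψ := by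
    refine IsPullback.of_right (h₁₂ := pullback.fst f₀ ψ₀) ?_ (pullback.lift_snd _ _ _)
      (IsPullback.of_hasPullback f₀ ψ₀)
    rw [pullback.lift_fst, hψ]
    exact hg
  refine ⟨↥A₁, inferInstance, inferInstance, inferInstance, X₁, f₁, Z, fZ, k, u, inferInstance, inferInstance,
    by rw [← Category.assoc, hk, hι], hu, fun y => ?_⟩
  have hy : ψ₀ y ∈ {q : Spec (CommRingCat.of ↥A₀) | topologicalKrullDim ↥(f₀.fiber q) ≤ d} := by
    by_contra hy
    have hys : ψ₀ y ∈ PrimeSpectrum.zeroLocus s := hs ▸ hy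
    have h1 : (1 : ↥A₁) ∈ y.asIdeal := by
      have e1 : ∑ i, (⟨cf i, (le_sup_right : _ ≤ A₁) (Algebra.subset_adjoin ⟨i, rfl⟩)⟩ : ↥A₁) *
          incl (gs i).2.choose = 1 := by
        refine Subtype.ext ?_
        simp only [AddSubmonoidClass.coe_finsetSum, MulMemClass.coe_mul, OneMemClass.coe_one]
        rw [← hsum]
        exact Finset.sum_congr rfl fun i _ => congrArg (cf i * ·) (gs i).2.choose_spec.2
      rw [← e1]
      exact sum_mem fun i _ => y.asIdeal.mul_mem_left _ (hys (gs i).2.choose_spec.1)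
    exact y.isPrime.ne_top ((Ideal.eq_top_iff_one _).2 h1)
  refine (FibDim.topologicalKrullDim_fiber_le_iff f₁ y d).2 fun z hz => ?_
  refine (FibDim.rd_baseChange_le (IsPullback.of_hasPullback f₀ ψ₀) z).trans
    ((FibDim.topologicalKrullDim_fiber_le_iff f₀ _ d).1 hy _ ?_)
  rw [← Scheme.Hom.comp_apply, pullback.condition, Scheme.Hom.comp_apply, hz]

variable [X.Over (Spec (CommRingCat.of A))]

/-- Vanishing on the total space when all fibres are small. -/
theorem subsingleton_HH_of_fibres [IsProper (X ↘ Spec (CommRingCat.of A))] {d : ℕ}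
    (hd : ∀ s, topologicalKrullDim ↥((X ↘ Spec (CommRingCat.of A)).fiber s) ≤ d) {M : X.Modules}
    (hM : Coh.IsQCoh M) {p : ℕ} (hp : d < p) : Subsingleton (Coh.HH X M p) := by
  obtain ⟨A₁, _, _, _, X₁, f₁, Z, fZ, k, u, hf₁, hk, -, hu, hd₁⟩ :=
    exists_model_finite (X ↘ Spec (CommRingCat.of A)) d hd
  haveI := hf₁
  haveI := hk
  haveI : IsAffineHom u := MorphismProperty.of_isPullback hu.flip inferInstance
  letI : X₁.Over (Spec (CommRingCat.of A₁)) := ⟨f₁⟩
  haveI : IsProper (X₁ ↘ Spec (CommRingCat.of A₁)) := hf₁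
  haveI := hM
  obtain ⟨e⟩ := S0012.result (k ≫ u) M p
  haveI : Subsingleton (Coh.HH X₁ ((Coh.push (k ≫ u)).obj M) p) := by
    refine FibVanish.subsingleton_HH_qcoh (A := A₁) (fun y _ => ?_) (QCoh.isQCoh_pushforward _ hM) hp
    exact ((f₁.fiberHomeo y).symm.isInducing.topologicalKrullDim_le).trans (hd₁ y)
  exact e.toEquiv.subsingleton

set_option maxHeartbeats 1000000 in
/-- Classes of a coproduct are finite sums of classes of the summands. -/
theorem exists_sum_sigma {A₁ : Type u} [CommRing A₁] [IsNoetherianRing A₁] {Y : Scheme.{u}}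
    [Y.Over (Spec (CommRingCat.of A₁))] [IsProper (Y ↘ Spec (CommRingCat.of A₁))] {J : Type u}
    (T : J → Y.Modules) (n : ℕ) (x : Coh.HH Y (∐ T) n) :
    ∃ (S : Finset (Discrete J)) (y : ∀ j : S, Coh.HH Y (T j.1.as) n),
      x = ∑ j, mapLin A₁ (Sigma.ι T j.1.as) n (y j) := by
  classical
  haveI := FibVanish.isNoetherian_of_proper A₁ (X := Y)
  haveI : CompactSpace (TopCat.of Y) := inferInstanceAs (CompactSpace Y)
  haveI : QuasiSeparatedSpace (TopCat.of Y) := inferInstanceAs (QuasiSeparatedSpace Y)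
  haveI : PrespectralSpace (TopCat.of Y) := inferInstanceAs (PrespectralSpace Y)
  haveI : PreservesColimitsOfSize.{u, u} (QCoh.toAbFunctor Y) := SiteBase.preservesColimitsOfSize_toSheaf _
  let D := CoproductsFromFiniteFiltered.liftToFinsetObj (Discrete.functor T)
  let hc := CoproductsFromFiniteFiltered.isColimitFiniteSubproductsCocone (C := Y.Modules) T
  let hc' := isColimitOfPreserves (QCoh.toAbFunctor Y) hc
  let e : colimit (D ⋙ QCoh.toAbFunctor Y) ≅ Coh.toAb (∐ T) :=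
    (colimit.isColimit _).coconePointUniqueUpToIso hc'
  obtain ⟨S, z, hz⟩ := QcqsColim.exists_stage (T := TopCat.of Y) (D ⋙ QCoh.toAbFunctor Y) n
    (x.comp (Abelian.Ext.mk₀ e.inv) (add_zero n))
  let q : D.obj S ⟶ ∐ T := (CoproductsFromFiniteFiltered.finiteSubcoproductsCocone T).ι.app S
  have hx : x = mapLin A₁ q n z := by
    have h0 : x = (x.comp (Abelian.Ext.mk₀ e.inv) (add_zero n)).comp (Abelian.Ext.mk₀ e.hom) (add_zero n) := by
      rw [Abelian.Ext.comp_assoc_of_second_deg_zero, Abelian.Ext.mk₀_comp_mk₀, Iso.inv_hom_id,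
        Abelian.Ext.comp_mk₀_id]
    have he : colimit.ι (D ⋙ QCoh.toAbFunctor Y) S ≫ e.hom = (QCoh.toAbFunctor Y).map q :=
      IsColimit.comp_coconePointUniqueUpToIso_hom (colimit.isColimit _) hc' S
    rw [← hz, Abelian.Ext.comp_assoc_of_second_deg_zero, Abelian.Ext.mk₀_comp_mk₀, he] at h0
    exact h0
  let TS : {j // j ∈ S} → Y.Modules := fun j => T j.1.as
  let w : Coh.HH Y (⨁ TS) n := mapLin A₁ (biproduct.isoCoproduct TS).inv n z
  refine ⟨S, fun j => mapLin A₁ (biproduct.π TS j) n w, ?_⟩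
  have hw : z = mapLin A₁ (biproduct.isoCoproduct TS).hom n w := by
    refine Eq.trans ?_ (FFun.mapLin_comp _ _ n z).symm
    rw [Iso.inv_hom_id]
    show z = Sheaf.H.map ((QCoh.toAbFunctor Y).map (𝟙 _)) n z
    rw [CategoryTheory.Functor.map_id, Sheaf.H.map_id_apply]
  rw [hx, hw, NefCurve.Relative.biproduct_class (A := A₁) TS n w, map_sum, map_sum]
  refine Finset.sum_congr rfl fun j _ => ?_
  rw [← NefCurve.Relative.biproduct_class (A := A₁) TS n w]
  refine (FFun.mapLin_comp _ _ n _).trans ((FFun.mapLin_comp _ _ n _).trans ?_)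
  congr 1
  congr 1
  rw [biproduct.isoCoproduct_hom]
  exact ((Category.assoc _ _ _).symm.trans (congrArg (· ≫ q) (biproduct.ι_desc (Sigma.ι TS) j))).trans
    (colimit.ι_desc _ _)

/-- Multiplication by a scalar of the base on the direct image. -/
noncomputable def scal {Y : Scheme.{u}} (h : X ⟶ Y) (G : Y.Modules) (a : A) :
    G ⟶ (Scheme.Modules.pushforward h).obj ((Scheme.Modules.pullback h).obj G) :=
  (Scheme.Modules.pullbackPushforwardAdjunction h).unit.app G ≫
    (Scheme.Modules.pushforward h).map (Formal.smulMod A ((Scheme.Modules.pullback h).obj G) a)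

/-- Scaled pulled back sections. -/
noncomputable def scSec {Y : Scheme.{u}} (h : X ⟶ Y) (G : Y.Modules) (a : A) {U : Y.Opens} (x : Γ(G, U)) :
    Γ((Scheme.Modules.pullback h).obj G, h ⁻¹ᵁ U) :=
  (scal h G a).app U x

/-- Sums of scaled pulled back sections are everything. -/
theorem scaled_sections_eq_top {Y : Scheme.{u}} (h : X ⟶ Y) [IsAffineHom h] {G : Y.Modules} (hG : Coh.IsQCoh G)
    {U : Y.Opens} (hU : IsAffineOpen U)
    (hgen : Subring.closure (Set.range (h.app U) ∪ Set.range fun a : A =>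
      X.presheaf.map (homOfLE (le_top : h ⁻¹ᵁ U ≤ ⊤)).op (Coh.toGlobal (X ↘ Spec (CommRingCat.of A)) a)) = ⊤)
    (z : Γ((Scheme.Modules.pullback h).obj G, h ⁻¹ᵁ U)) :
    z ∈ AddSubgroup.closure (Set.range fun q : A × Γ(G, U) => scSec h G q.1 q.2) := by
  let F := (Scheme.Modules.pullback h).obj G
  let ρ : A →+* Γ(X, h ⁻¹ᵁ U) := (X.presheaf.map (homOfLE (le_top : h ⁻¹ᵁ U ≤ ⊤)).op).hom.comp
    (Coh.toGlobal (X ↘ Spec (CommRingCat.of A)))
  let P : A × Γ(G, U) → Γ(F, h ⁻¹ᵁ U) := fun q => scSec h G q.1 q.2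
  have hP : ∀ a x, P (a, x) = ρ a • pullSec h G le_rfl x := fun a x => by
    refine (congrArg (fun y : Γ(F, h ⁻¹ᵁ U) => ρ a • y) ?_ :)
    exact (QCoh.map_id' _ _).symm
  let S := AddSubgroup.closure (Set.range P)
  have hstab : ∀ (r : Γ(X, h ⁻¹ᵁ U)), ∀ s ∈ S, r • s ∈ S := by
    intro r
    have hr : r ∈ Subring.closure (Set.range (h.app U) ∪ Set.range fun a : A => ρ a) := by
      exact hgen.ge (Subring.mem_top r)
    induction hr using Subring.closure_induction with
    | mem r hr =>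
      intro s hs
      induction hs using AddSubgroup.closure_induction with
      | mem s hs =>
        obtain ⟨⟨a, x⟩, rfl⟩ := hs
        rcases hr with ⟨c, rfl⟩ | ⟨b, rfl⟩
        · refine AddSubgroup.subset_closure ⟨(a, c • x), ?_⟩
          rw [hP, hP, pullSec_smul, Scheme.Hom.appLE_eq_app, smul_smul, smul_smul, mul_comm]
        · refine AddSubgroup.subset_closure ⟨(b * a, x), ?_⟩
          rw [hP, hP, map_mul, mul_smul]
      | zero => rw [smul_zero]; exact zero_mem _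
      | add s t _ _ hs ht => rw [smul_add]; exact add_mem hs ht
      | neg s _ hs => rw [smul_neg]; exact neg_mem hs
    | zero => intro s _; rw [zero_smul]; exact zero_mem _
    | one => intro s hs; rwa [one_smul]
    | add r r' _ _ h₁ h₂ => intro s hs; rw [add_smul]; exact add_mem (h₁ s hs) (h₂ s hs)
    | neg r _ h₁ => intro s hs; rw [neg_smul]; exact neg_mem (h₁ s hs)
    | mul r r' _ _ h₁ h₂ => intro s hs; rw [mul_smul]; exact h₁ _ (h₂ s hs)
  refine Submodule.span_induction (p := fun y _ => y ∈ S) ?_ (zero_mem _) (fun _ _ _ _ => add_mem)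
    (fun r y _ hy => hstab r y hy) (CohPullLib.mem_span_range_pullSec h hG (hU.preimage h) hU le_rfl z)
  rintro _ ⟨x, rfl⟩
  exact AddSubgroup.subset_closure ⟨(1, x), by rw [hP, map_one, one_smul]⟩

/-- Top cohomology of a pullback from a noetherian model is finite. -/
theorem finite_HH_pullback {A₁ : Type u} [CommRing A₁] [IsNoetherianRing A₁] [Algebra A₁ A] {Y : Scheme.{u}}
    [Y.Over (Spec (CommRingCat.of A₁))] [IsProper (Y ↘ Spec (CommRingCat.of A₁))] (h : X ⟶ Y) [IsAffineHom h]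
    (w : h ≫ (Y ↘ Spec (CommRingCat.of A₁)) =
      (X ↘ Spec (CommRingCat.of A)) ≫ Spec.map (CommRingCat.ofHom (algebraMap A₁ A)))
    (hgen : ∀ U : Y.Opens, IsAffineOpen U → Subring.closure (Set.range (h.app U) ∪ Set.range fun a : A =>
      X.presheaf.map (homOfLE (le_top : h ⁻¹ᵁ U ≤ ⊤)).op (Coh.toGlobal (X ↘ Spec (CommRingCat.of A)) a)) = ⊤)
    {d : ℕ} (hd : ∀ y, topologicalKrullDim ↥((Y ↘ Spec (CommRingCat.of A₁)).fiber y) ≤ d)
    {G : Y.Modules} (hG : Coh.IsCoh G) :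
    Module.Finite A (Coh.HH X ((Scheme.Modules.pullback h).obj G) d) := by
  classical
  let F := (Scheme.Modules.pullback h).obj G
  let N := (Scheme.Modules.pushforward h).obj F
  have hFq : Coh.IsQCoh F := QCoh.isQCoh_pullback h hG.1
  haveI : Coh.IsQCoh F := hFq
  have hN : Coh.IsQCoh N := QCoh.isQCoh_pushforward h hFq
  let T : A → Y.Modules := fun _ => G
  let Ψ : (∐ T) ⟶ N := Sigma.desc fun a => scal h G a
  have hcop : Coh.IsQCoh (∐ T) := QCoh.isQCoh_colimit (Discrete.functor T) fun _ => hG.1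
  haveI : Epi Ψ := by
    refine CohPullLib.epi_of_surjective_cover hcop hN Ψ (fun U : Y.affineOpens => U.1) (fun U => U.2)
      (fun y => ?_) fun U z => ?_
    · obtain ⟨U, hU, hyU, -⟩ := exists_isAffineOpen_mem_and_subset (x := y) (U := (⊤ : Y.Opens)) trivial
      exact ⟨⟨U, hU⟩, hyU⟩
    · refine (AddSubgroup.closure_le (AddMonoidHom.range (Ψ.app U.1).hom)).2 ?_
        (scaled_sections_eq_top h hG.1 U.2 (hgen U.1 U.2) z)
      rintro _ ⟨⟨a, x⟩, rfl⟩
      refine ⟨(Sigma.ι T a).app U.1 x, ?_⟩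
      exact (congr(($(Sigma.ι_desc (fun a => scal h G a) a)).app U.1 x) :)
  haveI : Subsingleton (Coh.HH Y (kernel Ψ) (d + 1)) :=
    FibVanish.subsingleton_HH_qcoh (A := A₁) (fun y _ =>
      (((Y ↘ Spec (CommRingCat.of A₁)).fiberHomeo y).symm.isInducing.topologicalKrullDim_le).trans (hd y))
      (QCoh.isQCoh_kernel hcop hN Ψ) (Nat.lt_succ_self d)
  haveI : Module.Finite A₁ (Coh.HH Y G d) := S0002.result A₁ Y G hG d
  obtain ⟨n, e, he⟩ := Module.Finite.exists_fin (R := A₁) (M := Coh.HH Y G d)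
  let l : Coh.HH Y G d →+ Coh.HH X F d :=
    (CohPull.pushEdge h F d).comp (CohPull.mapH ((Scheme.Modules.pullbackPushforwardAdjunction h).unit.app G) d)
  have hl : ∀ (r : A₁) x, l (r • x) = algebraMap A₁ A r • l x := fun r x => by
    show CohPull.pushEdge h F d (CohPull.mapH _ d (CohPull.mapH (Formal.smulMod A₁ G r) d x)) =
      CohPull.mapH (Formal.smulMod A F (algebraMap A₁ A r)) d (CohPull.pushEdge h F d (CohPull.mapH _ d x))
    rw [← pushEdge_natural, ← Sheaf.H.map_comp_apply, ← Sheaf.H.map_comp_apply, ← Functor.map_comp,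
      ← Functor.map_comp]
    congr 4
    refine Scheme.Modules.hom_ext _ _ fun U => ?_
    ext m
    refine (Scheme.Modules.Hom.app_smul ((Scheme.Modules.pullbackPushforwardAdjunction h).unit.app G)
      (show Γ(Y, U) from Coh.resTop Y (op U) (Coh.toGlobal (Y ↘ Spec (CommRingCat.of A₁)) r)) m).trans ?_
    refine congrArg (fun c : Γ(X, h ⁻¹ᵁ U) => c • (show Γ(F, h ⁻¹ᵁ U) from
      ((Scheme.Modules.pullbackPushforwardAdjunction h).unit.app G).app U m)) ?_
    refine (app_topRes h U _).trans ?_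
    rw [← toGlobal_comm (Y ↘ Spec (CommRingCat.of A₁)) (X ↘ Spec (CommRingCat.of A)) h w]
    rfl
  refine ⟨⟨Finset.univ.image fun i => l (e i), ?_⟩⟩
  rw [eq_top_iff]
  intro y _
  obtain ⟨z, rfl⟩ := (CohPullLib.pushEdge_bijective_of_isAffineHom h F d).2 y
  obtain ⟨x, rfl⟩ := PnCoh.Finite.exists_of_deltaLin_eq_zero A₁ (CurveSlope.shortExact_kernel_of_epi Ψ) d
    (x := z) (Subsingleton.elim _ _)
  obtain ⟨S, v, rfl⟩ := exists_sum_sigma (A₁ := A₁) T d x
  rw [map_sum, map_sum]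
  refine sum_mem fun j _ => ?_
  have e1 : CohPull.pushEdge h F d (mapLin A₁ Ψ d (mapLin A₁ (Sigma.ι T j.1.as) d (v j))) =
      j.1.as • l (v j) := by
    rw [FFun.mapLin_comp (A := A₁), Sigma.ι_desc]
    show CohPull.pushEdge h F d (CohPull.mapH (scal h G j.1.as) d (v j)) =
      CohPull.mapH (Formal.smulMod A F j.1.as) d (CohPull.pushEdge h F d (CohPull.mapH _ d (v j)))
    rw [← pushEdge_natural, ← Sheaf.H.map_comp_apply, ← Functor.map_comp]
    rfl
  rw [e1]
  refine Submodule.smul_mem _ _ ?_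
  have hv : v j ∈ Submodule.span A₁ (Set.range e) := by rw [he]; trivial
  refine Submodule.span_induction (p := fun y _ => l y ∈ _) ?_ ?_ ?_ ?_ hv
  · rintro _ ⟨i, rfl⟩
    exact Submodule.subset_span (Finset.mem_coe.2 (Finset.mem_image_of_mem _ (Finset.mem_univ i)))
  · rw [map_zero]; exact zero_mem _
  · intro a b _ _ ha hb; rw [map_add]; exact add_mem ha hb
  · intro r a _ ha; rw [hl]; exact Submodule.smul_mem _ _ ha

/-- Top cohomology of a finite type module is finite. -/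
theorem finite_HH_top [IsProper (X ↘ Spec (CommRingCat.of A))] {d : ℕ}
    (hd : ∀ s, topologicalKrullDim ↥((X ↘ Spec (CommRingCat.of A)).fiber s) ≤ d) {M : X.Modules}
    (hM : Coh.IsCoh M) : Module.Finite A (Coh.HH X M d) := by
  classical
  obtain ⟨A₁, _, _, _, X₁, f₁, Z, fZ, k, u, hf₁, hk, hkf, hu, hd₁⟩ :=
    exists_model_finite (X ↘ Spec (CommRingCat.of A)) d hd
  haveI := hf₁
  haveI := hk
  haveI : IsAffineHom u := MorphismProperty.of_isPullback hu.flip inferInstance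
  letI : X₁.Over (Spec (CommRingCat.of A₁)) := ⟨f₁⟩
  haveI : IsProper (X₁ ↘ Spec (CommRingCat.of A₁)) := hf₁
  haveI := FibVanish.isNoetherian_of_proper A₁ (X := X₁)
  haveI : X₁.IsSeparated := ⟨by
    rw [← terminal.comp_from f₁]
    infer_instance⟩
  let h : X ⟶ X₁ := k ≫ u
  haveI : IsAffineHom h := inferInstance
  have w : h ≫ f₁ = (X ↘ Spec (CommRingCat.of A)) ≫ Spec.map (CommRingCat.ofHom (algebraMap A₁ A)) := by
    rw [← hkf, Category.assoc, hu.w, Category.assoc]
  have hgen : ∀ U : X₁.Opens, IsAffineOpen U → Subring.closure (Set.range (h.app U) ∪ Set.range fun a : A =>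
      X.presheaf.map (homOfLE (le_top : h ⁻¹ᵁ U ≤ ⊤)).op (Coh.toGlobal (X ↘ Spec (CommRingCat.of A)) a)) = ⊤ := by
    intro U hU
    rw [eq_top_iff]
    intro r _
    obtain ⟨b, hb⟩ := k.app_surjective (u ⁻¹ᵁ U) (hU.preimage u) r
    obtain ⟨t, ht⟩ := CohPullLib.exists_finite_closure hu hU b
    subst hb
    have hmem := (Subring.mem_map (f := (k.app (u ⁻¹ᵁ U)).hom)).2 ⟨b, ht, rfl⟩
    rw [RingHom.map_closure] at hmem
    refine Subring.closure_mono ?_ hmem
    rintro _ ⟨_, (⟨c, rfl⟩ | ⟨a, -, rfl⟩), rfl⟩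
    · exact Or.inl ⟨c, rfl⟩
    · refine Or.inr ⟨a, ?_⟩
      refine Eq.trans ?_ (app_topRes k (u ⁻¹ᵁ U) _).symm
      rw [← hkf]
      rfl
  obtain ⟨κ, _, U, hcov, hU⟩ := QCoh.exists_affine_cover (X := X₁)
  have hU₁ : ∀ i, IsAffineOpen (U i) := fun i => by simpa using hU (p := 0) (fun _ => i)
  have hcovV : ∀ x : X, ∃ i, x ∈ h ⁻¹ᵁ U i := fun x => by
    obtain ⟨i, hi⟩ := Opens.mem_iSup.1 (hcov ▸ trivial : h x ∈ ⨆ i, U i)
    exact ⟨i, hi⟩
  have hgenM : ∀ i, ∃ T : Finset Γ(M, h ⁻¹ᵁ U i),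
      Submodule.span Γ(X, h ⁻¹ᵁ U i) (T : Set Γ(M, h ⁻¹ᵁ U i)) = ⊤ := fun i =>
    (QCoh.finite_of_isFT hM.1 hM.2 ((hU₁ i).preimage h)).fg_top
  choose T hT using hgenM
  let H := (Scheme.Modules.pushforward h).obj M
  have hH : Coh.IsQCoh H := QCoh.isQCoh_pushforward h hM.1
  obtain ⟨N, hN, hTN⟩ := CohPullLib.exists_ftOn_family hH U hU₁ (fun i => (T i : Set Γ(M, h ⁻¹ᵁ U i)))
    fun i => (T i).finite_toSet
  have hG : Coh.IsCoh N.toModules := ⟨isQCoh_of_ftOn hH hN, isFT_of_ftOn hH hN⟩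
  let v := ((Scheme.Modules.pullbackPushforwardAdjunction h).homEquiv N.toModules M).symm N.ι
  have hPq := QCoh.isQCoh_pullback h hG.1
  haveI : Epi v := by
    refine CohPullLib.epi_of_surjective_cover hPq hM.1 v (fun i => h ⁻¹ᵁ U i) (fun i => (hU₁ i).preimage h)
      hcovV fun i z => ?_
    have hle : Submodule.span Γ(X, h ⁻¹ᵁ U i) (T i : Set Γ(M, h ⁻¹ᵁ U i)) ≤
        LinearMap.range (appLin v (h ⁻¹ᵁ U i)) := by
      rw [Submodule.span_le]
      intro t ht
      obtain ⟨m, hm⟩ := N.exists_app_eq (hTN i ht)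
      exact ⟨pullSec h N.toModules le_rfl m,
        (CohPullLib.adjunct_app_pullSec h N.ι le_rfl m).trans ((QCoh.map_id' _ _).trans hm)⟩
    rw [hT i] at hle
    exact hle (Submodule.mem_top : z ∈ ⊤)
  haveI := finite_HH_pullback (A := A) (A₁ := A₁) h w hgen (d := d) hd₁ hG
  haveI : Subsingleton (Coh.HH X (kernel v) (d + 1)) :=
    subsingleton_HH_of_fibres hd (QCoh.isQCoh_kernel hPq hM.1 v) (Nat.lt_succ_self d)
  exact Module.Finite.of_surjective (mapLin A v d) fun y =>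
    PnCoh.Finite.exists_of_deltaLin_eq_zero A (CurveSlope.shortExact_kernel_of_epi v) d
      (x := y) (Subsingleton.elim _ _)

/-- The top higher direct image of a finite type module is of finite type. -/
theorem isCoh_Rpush_top {S : Scheme.{u}} {Y : Scheme.{u}} (f : Y ⟶ S) [IsProper f] (d : ℕ)
    (hd : ∀ s : S, topologicalKrullDim ↥(f.fiber s) ≤ d) [HasInjectiveResolutions Y.Modules] (M : Y.Modules)
    (hM : Coh.IsCoh M) : Coh.IsCoh ((Coh.Rpush f d).obj M) := by
  refine QCoh.isCoh_Rpush_of_finite f M hM.1 d fun V hV => ?_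
  letI : ((f ⁻¹ᵁ V : Y.Opens) : Scheme.{u}).Over (Spec (CommRingCat.of Γ(S, V))) := ⟨overSpec f hV⟩
  haveI : IsProper (((f ⁻¹ᵁ V : Y.Opens) : Scheme.{u}) ↘ Spec (CommRingCat.of Γ(S, V))) := by
    show IsProper ((f ∣_ V) ≫ hV.isoSpec.hom)
    infer_instance
  haveI : IsProper (overSpec f hV) := ‹_›
  have hfib : ∀ s, topologicalKrullDim
      ↥((((f ⁻¹ᵁ V : Y.Opens) : Scheme.{u}) ↘ Spec (CommRingCat.of Γ(S, V))).fiber s) ≤ d := fun s => by
    refine (FibDim.topologicalKrullDim_fiber_le_iff _ _ d).2 fun z hz => ?_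
    exact (FibDim.rd_baseChange_le (QCoh.isPullback_overSpec (f := f) hV) z).trans
      ((FibDim.topologicalKrullDim_fiber_le_iff f _ d).1 (hd _) _ rfl)
  have := finite_HH_top (A := Γ(S, V)) hfib (M := M.restrict (f ⁻¹ᵁ V).ι) (isCoh_restrict_open hM)
  rw [← toGlobal_overSpec f hV]
  exact this

end Groth.Agent.FibVanNN
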